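import Cfsg.Agent.H940.MaxCls
import Cfsg.Agent.SporadicStructure.M24IndexMain
import Cfsg.Agent.SporadicStructure.Sextet
import Cfsg.Agent.S1552
import Cfsg.Agent.S1563
import Cfsg.Agent.S1564
import Cfsg.Agent.S1565
import Cfsg.Agent.S0360
import Cfsg.Agent.S0363
import Cfsg.Agent.S0364
import Cfsg.Agent.S0366
import Cfsg.Agent.S0367
import Cfsg.Agent.Prune
set_option linter.all false
prune_inst 0x7f00000000000000000000000000000000000000000000000000000000000000000000000000000000000000000000000000000000000000000000000000000000000000000000000000000000000000003fffffffffffffffffffffffffffbeffbdffffffff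
open scoped Cfsg.Agent.FastGrp

/-!
# Five classes of maximal subgroups of the Mathieu group of degree 24

The stabilisers of a point, of two points, of three points, of an octad and of a sextet.
-/

set_option autoImplicit false

open scoped Pointwise

namespace Cfsg.Agent.H867.Max.MTwentyFour

open Cfsg MulAction Cfsg.Agent.H940.MaxCls
open Cfsg.Agent.SporadicStructure

/-- maximal subgroups of different index are apart -/
theorem apart_of_index {G : Type*} [Group G] [Finite G] {A B : Subgroup G} {a b : ℕ}
    (hA : IsCoatom A) (hB : IsCoatom B) (ha : A.index = a) (hb : B.index = b) (h : a ≠ b) :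
    Apart A B := by
  refine apart_of_coatoms hA hB fun hc => h ?_
  have h1 := A.card_mul_index
  have h2 := B.card_mul_index
  rw [hc, ← h2] at h1
  rw [← ha, ← hb]
  exact Nat.eq_of_mul_eq_mul_left Nat.card_pos h1

theorem index_finset {n k : ℕ} (hn : n ≤ 5) (hk : Nat.choose 24 n = k) {s : Finset GolayPt}
    (hs : s.card = n) : (stabilizer M24 s).index = k := by
  have h : orbit M24 s = ((Finset.univ.powersetCard n : Finset (Finset GolayPt)) :
      Set (Finset GolayPt)) := by
    ext t
    rw [mem_orbit_iff, Finset.mem_coe, Finset.mem_powersetCard]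
    constructor
    · rintro ⟨g, rfl⟩
      exact ⟨Finset.subset_univ _, by rw [Finset.card_smul_finset, hs]⟩
    · rintro ⟨-, ht⟩
      exact M24IndexMain.exists_smul_eq_finset Cfsg.Agent.S0366.result hn hs ht
  rw [index_stabilizer, h, Set.ncard_coe_finset, Finset.card_powersetCard, Finset.card_univ,
    M24IndexMain.card24, hk]

theorem pretrans : IsPretransitive M24 GolayPt := by
  have h5 : IsMultiplyPretransitive M24 GolayPt 5 := Cfsg.Agent.S0366.result
  have h1 : IsMultiplyPretransitive M24 GolayPt 1 :=
    isMultiplyPretransitive_of_le (n := 5) (by norm_num)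
      (by rw [Nat.card_eq_fintype_card, M24IndexMain.card24]; norm_num)
  exact is_one_pretransitive_iff.1 h1

theorem preprim : IsPreprimitive M24 GolayPt := by
  have h5 : IsMultiplyPretransitive M24 GolayPt 5 := Cfsg.Agent.S0366.result
  have h2 : IsMultiplyPretransitive M24 GolayPt 2 :=
    isMultiplyPretransitive_of_le (n := 5) (by norm_num)
      (by rw [Nat.card_eq_fintype_card, M24IndexMain.card24]; norm_num)
  exact isPreprimitive_of_is_two_pretransitive h2

theorem coatom_point (p : GolayPt) : IsCoatom (stabilizer M24 p) := by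
  have := preprim
  have : Nontrivial GolayPt := Fintype.one_lt_card_iff_nontrivial.1 (by rw [M24IndexMain.card24]; norm_num)
  exact IsPreprimitive.isCoatom_stabilizer_of_isPreprimitive M24 p

theorem index_point (p : GolayPt) : (stabilizer M24 p).index = 24 := by
  have := pretrans
  rw [index_stabilizer_of_transitive, Nat.card_eq_fintype_card, M24IndexMain.card24]

theorem index_octad {o : Finset GolayPt} (ho : o ∈ octads) : (stabilizer M24 o).index = 759 :=
  M24IndexMain.index_octad (fun o o' h h' => Cfsg.Agent.S0367.result o o' h h')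
    Cfsg.Agent.S0360.result ho

theorem index_sextet {X : Finset (Finset GolayPt)} (hX : X ∈ sextets) :
    (stabilizer M24 X).index = 1771 :=
  M24IndexMain.index_sextet Cfsg.Agent.S0366.result
    ⟨fun t ht => Sextet.exists_unique_sextet Cfsg.Agent.S0363.result t ht,
      Sextet.ncard_sextets Cfsg.Agent.S0363.result⟩ hX

theorem coatom_sextet {X : Finset (Finset GolayPt)} (hX : X ∈ sextets) :
    IsCoatom (stabilizer M24 X) := by
  obtain ⟨_, _, _, _, _, _, _, _, _, _, h⟩ := Cfsg.Agent.S1552.result X hX
  exact h

/-- **The row `M24`.** -/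
theorem sep : Sep 5 M24 := by
  have hfin : Finite M24 := inferInstance
  obtain ⟨s, hs⟩ : ∃ s : Finset GolayPt, s.card = 2 := by
    obtain ⟨s, -, hs⟩ := Finset.exists_subset_card_eq
      (show 2 ≤ (Finset.univ : Finset GolayPt).card by rw [Finset.card_univ, M24IndexMain.card24]; norm_num)
    exact ⟨s, hs⟩
  obtain ⟨t, ht⟩ : ∃ t : Finset GolayPt, t.card = 3 := by
    obtain ⟨t, -, ht⟩ := Finset.exists_subset_card_eq
      (show 3 ≤ (Finset.univ : Finset GolayPt).card by rw [Finset.card_univ, M24IndexMain.card24]; norm_num)
    exact ⟨t, ht⟩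
  obtain ⟨o, ho⟩ : ∃ o : Finset GolayPt, o ∈ octads := by
    have h : octads.ncard ≠ 0 := by rw [Cfsg.Agent.S0360.result]; norm_num
    exact Set.nonempty_of_ncard_ne_zero h
  obtain ⟨X, hX⟩ : ∃ X : Finset (Finset GolayPt), X ∈ sextets := by
    have h : sextets.ncard ≠ 0 := by rw [Sextet.ncard_sextets Cfsg.Agent.S0363.result]; norm_num
    exact Set.nonempty_of_ncard_ne_zero h
  have c1 := coatom_point (none : GolayPt)
  have c2 := Cfsg.Agent.S1563.result s hs
  have c3 := Cfsg.Agent.S1564.result t ht
  have c4 := Cfsg.Agent.S1565.result o ho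
  have c5 := coatom_sextet hX
  have i1 := index_point (none : GolayPt)
  have i2 := index_finset (by norm_num) (show Nat.choose 24 2 = 276 by decide) hs
  have i3 := index_finset (by norm_num) (show Nat.choose 24 3 = 2024 by decide) ht
  have i4 := index_octad ho
  have i5 := index_sextet hX
  exact sep_five c1.1 c2.1 c3.1 c4.1 c5.1
    (apart_of_index c1 c2 i1 i2 (by norm_num)) (apart_of_index c1 c3 i1 i3 (by norm_num))
    (apart_of_index c1 c4 i1 i4 (by norm_num)) (apart_of_index c1 c5 i1 i5 (by norm_num))
    (apart_of_index c2 c3 i2 i3 (by norm_num)) (apart_of_index c2 c4 i2 i4 (by norm_num))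
    (apart_of_index c2 c5 i2 i5 (by norm_num)) (apart_of_index c3 c4 i3 i4 (by norm_num))
    (apart_of_index c3 c5 i3 i5 (by norm_num)) (apart_of_index c4 c5 i4 i5 (by norm_num))

end Cfsg.Agent.H867.Max.MTwentyFour
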